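import Groth.Agent.Lib.Perfection.Morph
import Groth.Agent.Lib.Ample.Pullback
import Groth.Agent.Lib.Ample.Extend
import Groth.Agent.H97.GlueLine
import Groth.Agent.Lib.TensorMod.GenLocal

/-!
Invertible modules on a perfection.
-/

set_option autoImplicit false
set_option linter.style.haveILetI false

noncomputable section

universe u

open CategoryTheory CategoryTheory.Limits AlgebraicGeometry Opposite TopologicalSpace

namespace Groth.Agent.Lib.PerfPic.Basic

open Groth.Agent.Lib.TensorMod Groth.Agent.Lib.TensorMod.Dual Groth.Agent.Lib.TensorMod.Gen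
  Groth.Agent.Lib.Ample.GenLocus Groth.Agent.Lib.Ample.Extend Groth.Agent.Lib.TensorMod.Pullback
  Groth.Agent.Lib.Perfection.Sections

variable {X : Scheme.{u}}

theorem cl_eq_iff {L M : X.Modules} : PicF.cl L = PicF.cl M ↔ Nonempty (L ≅ M) := by
  refine ⟨fun h => ?_, fun h => Quot.sound h⟩
  replace h := Quot.eqvGen_exact h
  induction h with
  | rel a b h => exact h
  | refl a => exact ⟨Iso.refl a⟩
  | symm a b _ ih => exact ih.map Iso.symm
  | trans a b c _ _ ih₁ ih₂ => exact ih₁.elim fun i => ih₂.map fun j => i ≪≫ j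

theorem cl_eq_structure_iff {L : X.Modules} :
    PicF.cl L = PicF.cl (Coh.structureModule X) ↔ ∃ g : Γ(L, ⊤), IsGen L ⊤ g := by
  rw [cl_eq_iff]
  constructor
  · rintro ⟨e⟩
    exact ⟨_, isGen_of_isIso_over (isIso_over_of_iso e.symm ⊤) (isGen_one ⊤)⟩
  · rintro ⟨g, hg⟩
    obtain ⟨φ, -⟩ := HomGlue.exists_iso_of_gen (L := L) (M := Coh.structureModule X)
      (U := fun _ : PUnit.{1} => (⊤ : X.Opens)) (by rw [iSup_const]) (fun _ => g) (fun _ => hg)
      (fun _ => one X ⊤) (fun _ => isGen_one ⊤) fun i j W hi hj c hc => by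
        have h1 : (1 : Γ(X, W)) = c := (hg W hi).1 (by simp only [one_smul]; exact hc)
        rw [← h1, one_smul]
    exact ⟨φ⟩

theorem exists_affine_frames [CompactSpace X] {L : X.Modules} (hL : PicF.IsInvertible L) :
    ∃ (ι : Type u) (_ : Finite ι) (U : ι → X.Opens) (e : ∀ i, Γ(L, U i)),
      iSup U = ⊤ ∧ (∀ i, IsAffineOpen (U i)) ∧ ∀ i, IsGen L (U i) (e i) := by
  obtain ⟨N, V, e, hV, he, hcov⟩ := Ample.Extend.exists_affine_frames hL
  refine ⟨ULift.{u} (Fin N), inferInstance, fun i => V i.down, fun i => e i.down, ?_, fun i => hV _,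
    fun i => he _⟩
  refine le_antisymm le_top (hcov.ge.trans (iSup_le fun i => le_iSup_of_le ⟨i⟩ le_rfl))

/-- Coordinates which agree on overlaps give a section. -/
theorem exists_glue {M : X.Modules} {ι : Type u} {U : ι → X.Opens} (hU : iSup U = ⊤)
    (e : ∀ i, Γ(M, U i)) (a : ∀ i, Γ(X, U i))
    (h : ∀ i j, ∃ u : Γ(X, U i ⊓ U j), rs M inf_le_left (e i) = u • rs M inf_le_right (e j) ∧
      rf inf_le_left (a i) * u = rf inf_le_right (a j)) :
    ∃ g : Γ(M, ⊤), ∀ i, rs M le_top g = a i • e i := by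
  obtain ⟨g, hg, -⟩ := TopCat.Sheaf.existsUnique_gluing'
    (⟨M.presheaf, M.isSheaf⟩ : TopCat.Sheaf Ab.{u} X) U ⊤ (fun i => homOfLE le_top) hU.ge
    (fun i => a i • e i) fun i j => by
      obtain ⟨u, hu, hau⟩ := h i j
      change rs M (inf_le_left : U i ⊓ U j ≤ U i) (a i • e i) =
        rs M (inf_le_right : U i ⊓ U j ≤ U j) (a j • e j)
      rw [rs_smul, rs_smul, hu, smul_smul, hau]
  exact ⟨g, hg⟩

variable {p : ℕ} [Fact p.Prime] {XP : Scheme.{u}} [FrobSch.IsCharP X p] [FrobSch.IsCharP XP p]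
  {π : XP ⟶ X} (hπ : FrobSch.IsPerfection π p)

include hπ

theorem exists_kill {κ : Type u} [Finite κ] {W : κ → X.Opens} (hW : ∀ k, IsCompact (W k : Set X))
    (r s : ∀ k, Γ(X, W k)) (h : ∀ k, π.app (W k) (r k) = π.app (W k) (s k)) :
    ∃ m : ℕ, ∀ k, r k ^ p ^ m = s k ^ p ^ m := by
  have hn : ∀ k, ∃ m, ∀ m', m ≤ m' → r k ^ p ^ m' = s k ^ p ^ m' := fun k => by
    obtain ⟨m, hm⟩ := isNilpotent_of_app_eq_zero hπ (hW k) (r k - s k) (by
      rw [map_sub, sub_eq_zero]; exact h k)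
    refine ⟨m, fun m' hm' => sub_eq_zero.mp ?_⟩
    rw [← sub_pow_pp p (FrobSch.natCast_eq_zero_app X p _)]
    exact pow_eq_zero_of_le (hm'.trans (Nat.lt_pow_self (Fact.out : p.Prime).one_lt).le) hm
  choose m hm using hn
  have := Fintype.ofFinite κ
  exact ⟨Finset.univ.sup m, fun k => hm k _ (Finset.le_sup (Finset.mem_univ k))⟩

theorem uniform_descend [QuasiSeparatedSpace X] {κ : Type u} [Finite κ] {W : κ → X.Opens}
    (hW : ∀ k, IsCompact (W k : Set X)) (c : ∀ k, Γ(XP, π ⁻¹ᵁ W k)) :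
    ∃ (n : ℕ) (a : ∀ k, Γ(X, W k)), ∀ k, π.app (W k) (a k) = c k ^ p ^ n := by
  have hn : ∀ k, ∃ (n : ℕ) (r : Γ(X, W k)), π.app (W k) r = c k ^ p ^ n := fun k =>
    exists_descend hπ (hW k) (IsQuasiSeparated.of_quasiSeparatedSpace _) (c k)
  choose n r hr using hn
  have := Fintype.ofFinite κ
  refine ⟨Finset.univ.sup n, fun k => r k ^ p ^ (Finset.univ.sup n - n k), fun k => ?_⟩
  rw [map_pow, hr, ← pow_mul, ← pow_add, Nat.add_sub_cancel' (Finset.le_sup (Finset.mem_univ k))]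

theorem descend_cochain [QuasiSeparatedSpace X] {ι : Type u} [Finite ι] {U : ι → X.Opens}
    (hU : ∀ i, IsAffineOpen (U i)) (u : ∀ i j, Γ(X, U i ⊓ U j)) (c : ∀ i, Γ(XP, π ⁻¹ᵁ U i))
    (hc : ∀ i j, rf (π.preimage_mono (inf_le_left : U i ⊓ U j ≤ U i)) (c i) * π.app _ (u i j) =
      rf (π.preimage_mono (inf_le_right : U i ⊓ U j ≤ U j)) (c j)) :
    ∃ (n : ℕ) (a : ∀ i, Γ(X, U i)), (∀ i, π.app (U i) (a i) = c i ^ p ^ n) ∧
      ∀ i j, rf (inf_le_left : U i ⊓ U j ≤ U i) (a i) * u i j ^ p ^ n =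
        rf (inf_le_right : U i ⊓ U j ≤ U j) (a j) := by
  obtain ⟨n, a, ha⟩ := uniform_descend hπ (fun i => (hU i).isCompact) c
  have hcap : ∀ k : ι × ι, IsCompact ((U k.1 ⊓ U k.2 : X.Opens) : Set X) := fun k =>
    QuasiSeparatedSpace.inter_isCompact _ _ (U k.1).2 (hU k.1).isCompact (U k.2).2 (hU k.2).isCompact
  obtain ⟨m, hm⟩ := exists_kill hπ hcap
    (fun k => rf (inf_le_left : U k.1 ⊓ U k.2 ≤ U k.1) (a k.1) * u k.1 k.2 ^ p ^ n)
    (fun k => rf (inf_le_right : U k.1 ⊓ U k.2 ≤ U k.2) (a k.2)) fun k => by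
      have e1 := congrArg (· ^ p ^ n) (hc k.1 k.2)
      simp only [mul_pow, rf, ← map_pow, ← ha] at e1
      simp only [rf, map_mul, map_pow, app_res]
      simp only [map_pow] at e1 ⊢
      exact e1
  refine ⟨n + m, fun i => a i ^ p ^ m, fun i => ?_, fun i j => ?_⟩
  · rw [map_pow, ha, ← pow_mul, ← pow_add]
  · have := hm (i, j)
    simp only [mul_pow, rf, ← map_pow, ← pow_mul, ← pow_add] at this ⊢
    exact this

theorem isTrivial_pull_iff [CompactSpace X] [QuasiSeparatedSpace X] {L : X.Modules}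
    (hL : PicF.IsInvertible L) :
    (∃ g, IsGen ((pb π).obj L) ⊤ g) ↔ ∃ n, ∃ g, IsGen (CohB1.tensorPow L (p ^ n)) ⊤ g := by
  haveI := Perfection.Local.surjective p hπ
  obtain ⟨ι, _, U, e, hcov, hU, he⟩ := exists_affine_frames hL
  choose u hu using fun i j => exists_coord ((he j).res (inf_le_right : U i ⊓ U j ≤ U j))
    (rs L (inf_le_left : U i ⊓ U j ≤ U i) (e i))
  have huP : ∀ i j, rs ((pb π).obj L) (π.preimage_mono (inf_le_left : U i ⊓ U j ≤ U i))
      (unitSec π L (e i)) = π.app _ (u i j) •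
        rs ((pb π).obj L) (π.preimage_mono (inf_le_right : U i ⊓ U j ≤ U j)) (unitSec π L (e j)) := by
    intro i j
    erw [unitSec_rs π (inf_le_left : U i ⊓ U j ≤ U i) (e i),
      unitSec_rs π (inf_le_right : U i ⊓ U j ≤ U j) (e j), hu, unitSec_smul]
  have huN : ∀ (N : ℕ) i j, rs (CohB1.tensorPow L N) (inf_le_left : U i ⊓ U j ≤ U i) (powSec (e i) N) =
      u i j ^ N • rs (CohB1.tensorPow L N) (inf_le_right : U i ⊓ U j ≤ U j) (powSec (e j) N) := by
    intro N i j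
    rw [rs_powSec, rs_powSec, hu, powSec_smul]
  constructor
  · rintro ⟨t, ht⟩
    choose c hc using fun i => exists_coord (isGen_unitSec π (he i))
      (rs ((pb π).obj L) (le_top : π ⁻¹ᵁ U i ≤ ⊤) t)
    have hrel : ∀ i j, rf (π.preimage_mono (inf_le_left : U i ⊓ U j ≤ U i)) (c i) * π.app _ (u i j) =
        rf (π.preimage_mono (inf_le_right : U i ⊓ U j ≤ U j)) (c j) := fun i j => by
      have h1 := congrArg (rs _ (π.preimage_mono (inf_le_left : U i ⊓ U j ≤ U i))) (hc i)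
      have h2 := congrArg (rs _ (π.preimage_mono (inf_le_right : U i ⊓ U j ≤ U j))) (hc j)
      rw [rs_rs, rs_smul] at h1 h2
      rw [huP, smul_smul] at h1
      exact ((isGen_unitSec π (he j)) _ (π.preimage_mono inf_le_right)).1 (h1.symm.trans h2)
    obtain ⟨n, a, ha, hab⟩ := descend_cochain hπ hU u c hrel
    obtain ⟨g, hg⟩ := exists_glue hcov (fun i => powSec (e i) (p ^ n)) a
      fun i j => ⟨_, huN _ i j, hab i j⟩
    refine ⟨n, g, GenLocal.isGen_of_forall_exists fun x _ => ?_⟩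
    obtain ⟨i, hi⟩ := Opens.mem_iSup.1 (show x ∈ iSup U by rw [hcov]; trivial)
    refine ⟨U i, le_top, hi, ?_⟩
    rw [hg]
    refine IsGen_smul_isUnit (isGen_powSec (he i) _) ?_
    have hunit : IsUnit (c i) := isUnit_of_isGen_smul (isGen_unitSec π (he i))
      (hc i ▸ ht.res (le_top : π ⁻¹ᵁ U i ≤ ⊤))
    have hb : π ⁻¹ᵁ (X.basicOpen (a i)) = π ⁻¹ᵁ U i := by
      rw [Scheme.preimage_basicOpen, ha]
      exact XP.basicOpen_of_isUnit (hunit.pow _)
    refine X.toRingedSpace.isUnit_of_isUnit_germ _ _ fun y hy => ?_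
    obtain ⟨z, rfl⟩ := π.surjective y
    exact (Scheme.mem_basicOpen X (a i) (π z) hy).1 (hb.ge (show z ∈ π ⁻¹ᵁ U i from hy))
  · rintro ⟨n, g, hg⟩
    choose a ha using fun i => exists_coord (isGen_powSec (he i) (p ^ n))
      (rs (CohB1.tensorPow L (p ^ n)) (le_top : U i ≤ ⊤) g)
    choose b hb using fun i => (Perfection.Basic.bijective_pow_pow p XP hπ.1 (π ⁻¹ᵁ U i) n).2
      (π.app (U i) (a i))
    simp only at hb
    obtain ⟨t, ht⟩ := exists_glue (M := (pb π).obj L) (U := fun i => π ⁻¹ᵁ U i)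
      (by rw [← Scheme.Hom.preimage_iSup, hcov]; rfl) (fun i => unitSec π L (e i)) b fun i j => by
        refine ⟨π.app (U i ⊓ U j) (u i j), huP i j, ?_⟩
        apply (Perfection.Basic.bijective_pow_pow p XP hπ.1 (π ⁻¹ᵁ (U i ⊓ U j)) n).1
        simp only
        have h1 := congrArg (rs _ (inf_le_left : U i ⊓ U j ≤ U i)) (ha i)
        have h2 := congrArg (rs _ (inf_le_right : U i ⊓ U j ≤ U j)) (ha j)
        rw [rs_rs, rs_smul] at h1 h2
        rw [huN, smul_smul] at h1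
        have h3 : rf inf_le_left (a i) * u i j ^ p ^ n = rf inf_le_right (a j) :=
          ((isGen_powSec (he j) (p ^ n)) _ inf_le_right).1 (h1.symm.trans h2)
        have h4 := congrArg (π.app (U i ⊓ U j)) h3
        simp only [rf, map_mul, map_pow, app_res, ← hb] at h4
        change (rf (π.preimage_mono (inf_le_left : U i ⊓ U j ≤ U i)) (b i) *
            π.app (U i ⊓ U j) (u i j)) ^ p ^ n =
          rf (π.preimage_mono (inf_le_right : U i ⊓ U j ≤ U j)) (b j) ^ p ^ n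
        simp only [rf, mul_pow, ← map_pow]
        simp only [map_pow] at h4 ⊢
        exact h4
    refine ⟨t, GenLocal.isGen_of_forall_exists fun x _ => ?_⟩
    obtain ⟨i, hi⟩ := Opens.mem_iSup.1 (show π x ∈ iSup U by rw [hcov]; trivial)
    refine ⟨π ⁻¹ᵁ U i, le_top, hi, ?_⟩
    rw [ht]
    refine IsGen_smul_isUnit (isGen_unitSec π (he i)) ?_
    have hua : IsUnit (a i) := isUnit_of_isGen_smul (isGen_powSec (he i) _)
      (ha i ▸ hg.res (le_top : U i ≤ ⊤))
    exact isUnit_pow_iff (pow_ne_zero n (Fact.out : p.Prime).ne_zero) |>.1 (hb i ▸ hua.map _)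

end Groth.Agent.Lib.PerfPic.Basic
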