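import Groth.Agent.Lib.PerfPic.Basic

/-!
Descending invertible modules and ampleness along a perfection.
-/

set_option autoImplicit false
set_option linter.style.haveILetI false

noncomputable section

universe u

open CategoryTheory CategoryTheory.Limits AlgebraicGeometry Opposite TopologicalSpace

namespace Groth.Agent.Lib.PerfPic.Descend

open Groth.Agent.Lib.TensorMod Groth.Agent.Lib.TensorMod.Dual Groth.Agent.Lib.TensorMod.Gen
  Groth.Agent.Lib.Ample.GenLocus Groth.Agent.Lib.Ample.Extend Groth.Agent.Lib.TensorMod.Pullback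
  Groth.Agent.Lib.Perfection.Sections Groth.Agent.Lib.PerfPic.Basic

variable {p : ℕ} [Fact p.Prime] {XP X : Scheme.{u}} [FrobSch.IsCharP X p] [FrobSch.IsCharP XP p]
  [CompactSpace X] [QuasiSeparatedSpace X] {π : XP ⟶ X} (hπ : FrobSch.IsPerfection π p)

include hπ

theorem exists_descend_frames {M : XP.Modules} (hM : PicF.IsInvertible M) :
    ∃ (ι : Type u) (_ : Finite ι) (U : ι → X.Opens) (f : ∀ i, Γ(M, π ⁻¹ᵁ U i)),
      iSup U = ⊤ ∧ (∀ i, IsAffineOpen (U i)) ∧ ∀ i, IsGen M (π ⁻¹ᵁ U i) (f i) := by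
  have hh := Perfection.Local.isHomeomorph p hπ
  have key : ∀ x : X, ∃ V : X.Opens, x ∈ V ∧ IsAffineOpen V ∧
      ∃ f : Γ(M, π ⁻¹ᵁ V), IsGen M (π ⁻¹ᵁ V) f := fun x => by
    obtain ⟨y, rfl⟩ := hh.surjective x
    obtain ⟨W, e, hy, he⟩ := isInvertible_iff.1 hM y
    let V' : X.Opens := ⟨π.base '' (W : Set XP), hh.isOpenMap _ W.2⟩
    obtain ⟨V, hV, hyV, hVle⟩ := exists_isAffineOpen_mem_and_subset (x := π y) (U := V') ⟨y, hy, rfl⟩
    have hle : π ⁻¹ᵁ V ≤ W := fun z hz => by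
      obtain ⟨w, hw, hwz⟩ := hVle hz
      exact hh.injective hwz ▸ hw
    exact ⟨V, hyV, hV, _, he.res hle⟩
  choose V hxV hV f hf using key
  obtain ⟨t, ht⟩ := isCompact_univ.elim_finite_subcover (fun x => (V x : Set X)) (fun x => (V x).isOpen)
    fun x _ => Set.mem_iUnion.2 ⟨x, hxV x⟩
  refine ⟨{x // x ∈ t}, inferInstance, fun x => V x.1, fun x => f x.1, top_le_iff.1 fun x _ => ?_,
    fun x => hV _, fun x => hf _⟩
  obtain ⟨y, hy, hxy⟩ := Set.mem_iUnion₂.1 (ht (Set.mem_univ x))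
  exact Opens.mem_iSup.2 ⟨⟨y, hy⟩, hxy⟩

theorem exists_model {M : XP.Modules} (hM : PicF.IsInvertible M) :
    ∃ (n : ℕ) (L : X.Modules), PicF.IsInvertible L ∧
      Nonempty ((pb π).obj L ≅ CohB1.tensorPow M (p ^ n)) := by
  obtain ⟨ι, _, U, f, hcov, hU, hf⟩ := exists_descend_frames hπ hM
  let fj : ∀ i j, Γ(M, π ⁻¹ᵁ (U i ⊓ U j)) := fun i j =>
    rs M (π.preimage_mono (inf_le_right : U i ⊓ U j ≤ U j)) (f j)
  choose w hw using fun i j =>
    exists_coord ((hf i).res (π.preimage_mono (inf_le_left : U i ⊓ U j ≤ U i))) (fj i j)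
  have hw' : ∀ (i j : ι) (W : X.Opens) (hi : W ≤ U i) (hj : W ≤ U j),
      rs M (π.preimage_mono hj) (f j) =
        rf (π.preimage_mono (le_inf hi hj)) (w i j) • rs M (π.preimage_mono hi) (f i) := by
    intro i j W hi hj
    have h1 := congrArg (rs M (π.preimage_mono (le_inf hi hj))) (hw i j)
    erw [rs_rs, rs_smul, rs_rs] at h1
    exact h1
  have hcap : ∀ k : ι × ι, IsCompact ((U k.1 ⊓ U k.2 : X.Opens) : Set X) := fun k =>
    QuasiSeparatedSpace.inter_isCompact _ _ (U k.1).2 (hU k.1).isCompact (U k.2).2 (hU k.2).isCompact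
  have hcap3 : ∀ k : ι × ι × ι, IsCompact ((U k.1 ⊓ U k.2.1 ⊓ U k.2.2 : X.Opens) : Set X) := fun k =>
    QuasiSeparatedSpace.inter_isCompact _ _ (U k.1 ⊓ U k.2.1).2 (hcap (k.1, k.2.1)) (U k.2.2).2
      (hU k.2.2).isCompact
  obtain ⟨n, r, hr⟩ := uniform_descend hπ hcap (fun k => w k.1 k.2)
  have hr' : ∀ (i j : ι) (W : X.Opens) (hi : W ≤ U i) (hj : W ≤ U j),
      π.app W (rf (le_inf hi hj) (r (i, j))) = rf (π.preimage_mono (le_inf hi hj)) (w i j) ^ p ^ n := by
    intro i j W hi hj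
    refine (app_res π (le_inf hi hj) (r (i, j))).trans ?_
    rw [← map_pow]
    exact congrArg _ (hr (i, j))
  have hself : ∀ (i : ι) (W : X.Opens) (hi hi' : W ≤ U i),
      rf (π.preimage_mono (le_inf hi hi')) (w i i) = 1 := by
    intro i W hi hi'
    exact ((hf i) _ (π.preimage_mono hi)).1 ((hw' i i W hi hi').symm.trans (one_smul _ _).symm)
  have hmul : ∀ (i j k : ι) (W : X.Opens) (hi : W ≤ U i) (hj : W ≤ U j) (hk : W ≤ U k),
      rf (π.preimage_mono (le_inf hi hj)) (w i j) * rf (π.preimage_mono (le_inf hj hk)) (w j k) =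
        rf (π.preimage_mono (le_inf hi hk)) (w i k) := by
    intro i j k W hi hj hk
    refine ((hf i) _ (π.preimage_mono hi)).1 ?_
    show (_ * _) • _ = _ • _
    rw [← hw' i k W hi hk, mul_comm, mul_smul, ← hw' i j W hi hj, ← hw' j k W hj hk]
  obtain ⟨m₁, hm₁⟩ := exists_kill hπ (κ := ι) (W := fun i => U i ⊓ U i) (fun i => hcap (i, i))
    (fun i => r (i, i)) (fun i => 1) fun i => by
      have h1 := hr' i i (U i ⊓ U i) inf_le_left inf_le_right
      rw [hself _ _ inf_le_left inf_le_right, one_pow, rf_self] at h1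
      rw [h1, map_one]
  obtain ⟨m₂, hm₂⟩ := exists_kill hπ hcap3
    (fun k => rf (le_inf (inf_le_left.trans inf_le_left) (inf_le_left.trans inf_le_right)) (r (k.1, k.2.1)) *
      rf (le_inf (inf_le_left.trans inf_le_right) inf_le_right) (r (k.2.1, k.2.2)))
    (fun k => rf (le_inf (inf_le_left.trans inf_le_left) inf_le_right) (r (k.1, k.2.2))) fun k => by
      rw [map_mul, hr' k.1 k.2.1 _ (inf_le_left.trans inf_le_left) (inf_le_left.trans inf_le_right),
        hr' k.2.1 k.2.2 _ (inf_le_left.trans inf_le_right) inf_le_right,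
        hr' k.1 k.2.2 _ (inf_le_left.trans inf_le_left) inf_le_right, ← mul_pow]
      exact congrArg (· ^ p ^ n) (hmul k.1 k.2.1 k.2.2 _ (inf_le_left.trans inf_le_left)
        (inf_le_left.trans inf_le_right) inf_le_right)
  let m := m₁ + m₂
  let c : H97.GlueLine.Cocycle U :=
    { u := fun i j => r (i, j) ^ p ^ m
      self := fun i W h => by
        rw [show m = m₁ + m₂ from rfl, pow_add, pow_mul, hm₁ i, one_pow, one_pow]
        exact map_one _
      trans := fun i j k W hi hj hk => by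
        have h1 := congrArg (rf (le_inf (le_inf hi hj) hk)) (hm₂ (i, j, k))
        have h2 := congrArg (· ^ p ^ m₁) h1
        simp only [rf, map_mul, map_pow] at h2
        simp only [← rf.eq_def, rf_rf, ← pow_mul, ← pow_add, ← mul_pow] at h2
        simp only [rf, map_pow, ← mul_pow]
        rw [show m = m₂ + m₁ from add_comm _ _]
        exact h2 }
  refine ⟨n + m, H97.GlueLine.glue c, H97.GlueLine.isInvertible_glue c hcov, ?_⟩
  obtain ⟨φ, -⟩ := HomGlue.exists_iso_of_gen (L := (pb π).obj (H97.GlueLine.glue c))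
    (M := CohB1.tensorPow M (p ^ (n + m))) (U := fun i => π ⁻¹ᵁ U i)
    (by rw [← Scheme.Hom.preimage_iSup, hcov]; rfl)
    (fun i => unitSec π _ (H97.GlueLine.gen c i)) (fun i => isGen_unitSec π (H97.GlueLine.isGen_gen c i))
    (fun i => powSec (f i) (p ^ (n + m))) (fun i => isGen_powSec (hf i) _)
    fun i j V hi hj a ha => by
      let W := U j ⊓ U i
      have hVW : V ≤ π ⁻¹ᵁ W := fun z hz => ⟨hj hz, hi hz⟩
      have hg := congrArg (unitSec π (H97.GlueLine.glue c))
        (H97.GlueLine.rs_gen c j i (inf_le_left : W ≤ U j) (inf_le_right : W ≤ U i))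
      erw [unitSec_smul, ← unitSec_rs π (inf_le_right : W ≤ U i),
        ← unitSec_rs π (inf_le_left : W ≤ U j)] at hg
      have hg' := congrArg (rs _ hVW) hg
      erw [rs_rs, rs_smul, rs_rs] at hg'
      have hac := ((isGen_unitSec π (H97.GlueLine.isGen_gen c j)) V hj).1 (ha.symm.trans hg')
      have hf' := congrArg (rs M hVW) (hw' j i W inf_le_left inf_le_right)
      erw [rs_rs, rs_smul, rs_rs] at hf'
      rw [rs_powSec, rs_powSec, hac, hf', powSec_smul]
      congr 1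
      change _ = rf hVW (π.app W (rf (le_inf inf_le_left inf_le_right) (r (j, i) ^ p ^ m)))
      have h5 := congrArg (fun t => rf hVW t ^ p ^ m) (hr' j i W inf_le_left inf_le_right)
      simp only [rf, map_pow, ← pow_mul, ← pow_add] at h5 ⊢
      exact h5.symm
  exact ⟨φ⟩

theorem isAmple_of_pullback {L : X.Modules} (hL : PicF.IsInvertible L)
    (hA : CohB1.IsAmple ((pb π).obj L)) : CohB1.IsAmple L := by
  haveI := Perfection.Local.surjective p hπ
  refine Ample.Pow.isAmple_iff.2 ⟨hL, inferInstance, fun x => ?_⟩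
  obtain ⟨y, rfl⟩ := π.surjective x
  obtain ⟨d, hd, s, hys, hs⟩ := (Ample.Pow.isAmple_iff.1 hA).2.2 y
  obtain ⟨ι, _, U, e, hcov, hU, he⟩ := PerfPic.Basic.exists_affine_frames hL
  have heP : ∀ i, IsGen (CohB1.tensorPow ((pb π).obj L) d) (π ⁻¹ᵁ U i)
      (powSec (unitSec π L (e i)) d) := fun i => isGen_powSec (isGen_unitSec π (he i)) d
  choose c hc using fun i => exists_coord (heP i) (sv s (π ⁻¹ᵁ U i))
  choose u hu using fun i j => exists_coord ((he j).res (inf_le_right : U i ⊓ U j ≤ U j))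
    (rs L (inf_le_left : U i ⊓ U j ≤ U i) (e i))
  have huN : ∀ (N : ℕ) i j, rs (CohB1.tensorPow L N) (inf_le_left : U i ⊓ U j ≤ U i) (powSec (e i) N) =
      u i j ^ N • rs (CohB1.tensorPow L N) (inf_le_right : U i ⊓ U j ≤ U j) (powSec (e j) N) := by
    intro N i j
    rw [rs_powSec, rs_powSec, hu, powSec_smul]
  have hrel : ∀ i j, rf (π.preimage_mono (inf_le_left : U i ⊓ U j ≤ U i)) (c i) *
      π.app _ (u i j ^ d) = rf (π.preimage_mono (inf_le_right : U i ⊓ U j ≤ U j)) (c j) := fun i j => by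
    have huP : rs _ (π.preimage_mono (inf_le_left : U i ⊓ U j ≤ U i)) (powSec (unitSec π L (e i)) d) =
        π.app _ (u i j ^ d) • rs _ (π.preimage_mono (inf_le_right : U i ⊓ U j ≤ U j))
          (powSec (unitSec π L (e j)) d) := by
      erw [rs_powSec, rs_powSec, unitSec_rs π (inf_le_left : U i ⊓ U j ≤ U i) (e i),
        unitSec_rs π (inf_le_right : U i ⊓ U j ≤ U j) (e j), hu, unitSec_smul, powSec_smul, map_pow]
    have h1 := congrArg (rs _ (π.preimage_mono (inf_le_left : U i ⊓ U j ≤ U i))) (hc i)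
    have h2 := congrArg (rs _ (π.preimage_mono (inf_le_right : U i ⊓ U j ≤ U j))) (hc j)
    rw [rs_sv, rs_smul] at h1 h2
    rw [huP, smul_smul] at h1
    exact (heP j _ (π.preimage_mono inf_le_right)).1 (h1.symm.trans h2)
  obtain ⟨n, a, ha, hab⟩ := descend_cochain hπ hU (fun i j => u i j ^ d) c hrel
  obtain ⟨g, hg⟩ := exists_glue hcov (fun i => powSec (e i) (d * p ^ n)) a fun i j =>
    ⟨_, huN _ i j, by rw [pow_mul]; exact hab i j⟩
  obtain ⟨t, ht⟩ := exists_hom_of_sec (L := CohB1.tensorPow L (d * p ^ n)) g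
  have htU : ∀ i, CohB1.genLocus _ t ⊓ U i = X.basicOpen (a i) := fun i =>
    genLocus_inf_eq (isGen_powSec (he i) _) t (by rw [← rs_sv t (le_top : U i ≤ ⊤), ht, hg])
  have hpre : π ⁻¹ᵁ CohB1.genLocus _ t = CohB1.genLocus _ s := by
    have key : ∀ i, π ⁻¹ᵁ CohB1.genLocus _ t ⊓ π ⁻¹ᵁ U i = CohB1.genLocus _ s ⊓ π ⁻¹ᵁ U i := fun i => by
      rw [← Scheme.Hom.preimage_inf, htU, Scheme.preimage_basicOpen, ha,
        genLocus_inf_eq (heP i) s (hc i)]
      exact XP.basicOpen_pow (c i) (pow_pos (Fact.out : p.Prime).pos n)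
    refine Opens.ext (Set.ext fun z => ?_)
    obtain ⟨i, hi⟩ := Opens.mem_iSup.1 (show π z ∈ iSup U by rw [hcov]; trivial)
    have h1 := SetLike.ext_iff.1 (key i) z
    exact ⟨fun h => (h1.1 ⟨h, hi⟩).1, fun h => (h1.2 ⟨h, hi⟩).1⟩
  refine ⟨d * p ^ n, Nat.mul_pos hd (pow_pos (Fact.out : p.Prime).pos n), t, hpre.ge hys, ?_⟩
  have hcpt : IsCompact ((CohB1.genLocus _ t : X.Opens) : Set X) := by
    have h1 := hs.isCompact.image π.continuous
    rwa [← hpre, show ((π ⁻¹ᵁ CohB1.genLocus _ t : XP.Opens) : Set XP) =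
      π.base ⁻¹' (CohB1.genLocus _ t : Set X) from rfl,
      Set.image_preimage_eq _ π.surjective] at h1
  exact Perfection.Morph.isAffineOpen_of_preimage p hπ hcpt (IsQuasiSeparated.of_quasiSeparatedSpace _)
    (hpre ▸ hs)

end Groth.Agent.Lib.PerfPic.Descend
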