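import Groth.Agent.Lib.Perfection.Basic
import Mathlib.FieldTheory.IsPerfectClosure

/-!
# Perfections are insensitive to purely inseparable extensions of the ground field
-/

set_option autoImplicit false
set_option linter.style.haveILetI false
universe u

open CategoryTheory CategoryTheory.Limits AlgebraicGeometry Opposite

namespace Groth.Agent.Lib.PerfPic.PurelyInsep

open Groth.Agent.Lib.Perfection.Basic

variable (p : ℕ) [Fact p.Prime]

theorem isCharP_Spec (R : Type u) [CommRing R] [CharP R p] :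
    FrobSch.IsCharP (Spec (CommRingCat.of R)) p := by
  refine ⟨(Scheme.ΓSpecIso (CommRingCat.of R)).commRingCatIsoToRingEquiv.injective ?_⟩
  rw [map_natCast, map_zero]
  exact CharP.cast_eq_zero R p

variable {k k' : Type u} [Field k] [Field k'] [Algebra k k'] [CharP k p] [IsPurelyInseparable k k']

/-- A purely inseparable extension does not change the points in perfect schemes. -/
theorem bijective_comp (T : Scheme.{u}) [FrobSch.IsCharP T p] (hT : FrobSch.IsPerfect T p) :
    Function.Bijective fun g : T ⟶ Spec (CommRingCat.of k') =>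
      g ≫ Spec.map (CommRingCat.ofHom (algebraMap k k')) := by
  haveI : ExpChar k p := ExpChar.prime Fact.out
  haveI : ExpChar k' p := expChar_of_injective_algebraMap (algebraMap k k').injective p
  haveI : IsPRadical (algebraMap k k') p := inferInstance
  refine ⟨fun g₁ g₂ h => ?_, fun g => ?_⟩
  · simp only at h
    apply ext_of_isAffine
    ext x
    obtain ⟨y, rfl⟩ := (Scheme.ΓSpecIso _).commRingCatIsoToRingEquiv.symm.surjective x
    obtain ⟨n, r, hr⟩ := IsPRadical.pow_mem (algebraMap k k') p y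
    apply (bijective_pow_pow p T hT ⊤ n).1
    have h2 := congr_arg (fun m : T ⟶ Spec (CommRingCat.of k) =>
      m.appTop ((Scheme.ΓSpecIso _).inv r)) h
    simp only [Scheme.Hom.comp_appTop, CommRingCat.comp_apply] at h2
    have h3 : (Spec.map (CommRingCat.ofHom (algebraMap k k'))).appTop
          ((Scheme.ΓSpecIso (CommRingCat.of k)).inv r) =
        (Scheme.ΓSpecIso (CommRingCat.of k')).inv (algebraMap k k' r) := by
      rw [← CommRingCat.comp_apply, ← Scheme.ΓSpecIso_inv_naturality, CommRingCat.comp_apply]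
      rfl
    rw [h3, hr] at h2
    simp only [map_pow] at h2
    exact h2
  · have hp0 : ((p : ℕ) : Γ(T, ⊤)) = 0 := FrobSch.IsCharP.natCast_eq_zero
    let φ : k →+* Γ(T, ⊤) := ((Scheme.ΓSpecIso (CommRingCat.of k)).inv ≫ g.appTop).hom
    obtain ⟨ψ, hψ⟩ : ∃ ψ : k' →+* Γ(T, ⊤), ψ.comp (algebraMap k k') = φ := by
      rcases subsingleton_or_nontrivial Γ(T, ⊤) with hs | hn
      · exact ⟨⟨⟨⟨fun _ => 0, Subsingleton.elim _ _⟩, fun _ _ => Subsingleton.elim _ _⟩,
          Subsingleton.elim _ _, fun _ _ => Subsingleton.elim _ _⟩,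
          RingHom.ext fun _ => Subsingleton.elim _ _⟩
      · haveI : CharP Γ(T, ⊤) p := (CharP.charP_iff_prime_eq_zero Fact.out).2 hp0
        haveI : PerfectRing Γ(T, ⊤) p := ⟨isReduced_of_isPerfect p T hT ⊤⟩
        exact ⟨PerfectRing.lift (algebraMap k k') φ p, PerfectRing.lift_comp _ _ _⟩
    refine ⟨T.toSpecΓ ≫ Spec.map (CommRingCat.ofHom ψ), ?_⟩
    simp only [Category.assoc, ← Spec.map_comp]
    apply ext_of_isAffine
    rw [← cancel_epi (Scheme.ΓSpecIso (CommRingCat.of k)).inv]
    rw [Scheme.Hom.comp_appTop, ← Scheme.ΓSpecIso_inv_naturality_assoc, Scheme.toSpecΓ_appTop]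
    ext r
    simp only [CommRingCat.hom_comp, RingHom.comp_apply]
    change (Scheme.ΓSpecIso Γ(T, ⊤)).hom.hom ((Scheme.ΓSpecIso Γ(T, ⊤)).inv.hom
      ((ψ.comp (algebraMap k k')) r)) = _
    rw [hψ]
    simp [φ]

/-- The perfection of a purely inseparable base change is a perfection of the scheme. -/
theorem isPerfection_comp {X X' P : Scheme.{u}} [FrobSch.IsCharP P p] {g : X' ⟶ X}
    {f' : X' ⟶ Spec (CommRingCat.of k')} {f : X ⟶ Spec (CommRingCat.of k)}
    (H : IsPullback g f' f (Spec.map (CommRingCat.ofHom (algebraMap k k')))) {π : P ⟶ X'}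
    (hπ : FrobSch.IsPerfection π p) : FrobSch.IsPerfection (π ≫ g) p := by
  refine ⟨hπ.1, fun T _ hT => ⟨fun a₁ a₂ h => ?_, fun a => ?_⟩⟩
  · simp only [← Category.assoc] at h
    refine (hπ.2 T hT).1 (H.hom_ext h ((bijective_comp p (k := k) T hT).1 ?_))
    simp only [Category.assoc, ← H.w]
    simpa only [Category.assoc] using congrArg (· ≫ f) h
  · obtain ⟨c, hc⟩ := (bijective_comp p (k := k) (k' := k') T hT).2 (a ≫ f)
    obtain ⟨d, hd⟩ := (hπ.2 T hT).2 (H.lift a c hc.symm)
    exact ⟨d, by simp only at hd ⊢; rw [← Category.assoc, hd, H.lift_fst]⟩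

end Groth.Agent.Lib.PerfPic.PurelyInsep
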